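/-
Colengths of ideals of finite-codimension subalgebras of products of power series rings.
-/
import Mathlib.RingTheory.PowerSeries.Order
import Mathlib.LinearAlgebra.FiniteDimensional.Lemmas
import Mathlib.LinearAlgebra.Isomorphisms
import Mathlib.RingTheory.Finiteness.Subalgebra
import Mathlib.RingTheory.Ideal.Quotient.Operations
import Mathlib.Tactic

open PowerSeries

namespace Groth.HilbZeta

universe u

variable (k : Type u) [Field k] {s : ℕ}

/-- Truncated coefficients of each component. -/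
noncomputable def trunc (b : Fin s → ℕ) :
    (Fin s → k⟦X⟧) →ₗ[k] ((i : Fin s) → Fin (b i) → k) :=
  LinearMap.pi fun i => LinearMap.pi fun m => (PowerSeries.coeff (m : ℕ)) ∘ₗ LinearMap.proj i

variable {k}

theorem mem_ker_trunc (b : Fin s → ℕ) (f : Fin s → k⟦X⟧) :
    f ∈ LinearMap.ker (trunc k b) ↔ ∀ i, (b i : ℕ∞) ≤ (f i).order := by
  rw [LinearMap.mem_ker]
  refine ⟨fun h i => PowerSeries.le_order _ _ fun m hm => ?_,
    fun h => funext fun i => funext fun m => ?_⟩
  · exact congrFun (congrFun h i) ⟨m, Nat.cast_lt.1 hm⟩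
  · exact PowerSeries.coeff_of_lt_order _ (lt_of_lt_of_le (Nat.cast_lt.2 m.2) (h i))

theorem trunc_surjective (b : Fin s → ℕ) : Function.Surjective (trunc k b) := fun y =>
  ⟨fun i => PowerSeries.mk fun m => if h : m < b i then y i ⟨m, h⟩ else 0,
    funext fun i => funext fun m => by simp [trunc]⟩

theorem finite_quotient_ker_trunc (b : Fin s → ℕ) :
    Module.Finite k ((Fin s → k⟦X⟧) ⧸ LinearMap.ker (trunc k b)) :=
  Module.Finite.equiv ((trunc k b).quotKerEquivOfSurjective (trunc_surjective b)).symm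

theorem finrank_quotient_ker_trunc (b : Fin s → ℕ) :
    Module.finrank k ((Fin s → k⟦X⟧) ⧸ LinearMap.ker (trunc k b)) = ∑ i, b i := by
  rw [((trunc k b).quotKerEquivOfSurjective (trunc_surjective b)).finrank_eq,
    Module.finrank_pi_fintype]
  simp

variable {R : Subalgebra k (Fin s → k⟦X⟧)}

/-- An ideal of `R` seen inside the product. -/
noncomputable def toProd (I : Ideal R) : Submodule k (Fin s → k⟦X⟧) :=
  (I.restrictScalars k).map R.val.toLinearMap

theorem mem_toProd {I : Ideal R} {f : Fin s → k⟦X⟧} :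
    f ∈ toProd I ↔ ∃ h : f ∈ R, (⟨f, h⟩ : R) ∈ I := by
  constructor
  · rintro ⟨x, hx, rfl⟩; exact ⟨x.2, hx⟩
  · rintro ⟨h, hf⟩; exact ⟨⟨f, h⟩, hf, rfl⟩

theorem coe_toProd (I : Ideal R) :
    (toProd I : Set (Fin s → k⟦X⟧)) = Subtype.val '' (I : Set R) := rfl

theorem toProd_le (I : Ideal R) : toProd I ≤ Subalgebra.toSubmodule R := fun f hf => by
  obtain ⟨h, -⟩ := mem_toProd.1 hf; exact h

/-- `R/I → P/I`. -/
noncomputable def quotIncl (I : Ideal R) : (R ⧸ I) →ₗ[k] ((Fin s → k⟦X⟧) ⧸ toProd I) :=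
  Submodule.mapQ (I.restrictScalars k) (toProd I) R.val.toLinearMap (fun x hx => ⟨x, hx, rfl⟩) ∘ₗ
    (Submodule.Quotient.restrictScalarsEquiv k I).symm.toLinearMap

theorem quotIncl_mk (I : Ideal R) (x : R) :
    quotIncl I (Submodule.Quotient.mk x) = Submodule.Quotient.mk (x : Fin s → k⟦X⟧) := rfl

theorem quotIncl_injective (I : Ideal R) : Function.Injective (quotIncl I) := by
  rw [injective_iff_map_eq_zero]
  intro x hx
  obtain ⟨x, rfl⟩ := Submodule.Quotient.mk_surjective _ x
  rw [quotIncl_mk, Submodule.Quotient.mk_eq_zero] at hx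
  obtain ⟨h, hxI⟩ := mem_toProd.1 hx
  exact (Submodule.Quotient.mk_eq_zero _).2 hxI

theorem range_quotIncl (I : Ideal R) :
    LinearMap.range (quotIncl I) = (Subalgebra.toSubmodule R).map (toProd I).mkQ := by
  ext y
  constructor
  · rintro ⟨x, rfl⟩
    obtain ⟨x, rfl⟩ := Submodule.Quotient.mk_surjective _ x
    exact ⟨x, x.2, rfl⟩
  · rintro ⟨f, hf, rfl⟩
    exact ⟨Submodule.Quotient.mk ⟨f, hf⟩, rfl⟩

theorem finite_prod_quotient (I : Ideal R)
    [Module.Finite k ((Fin s → k⟦X⟧) ⧸ Subalgebra.toSubmodule R)] [Module.Finite k (R ⧸ I)] :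
    Module.Finite k ((Fin s → k⟦X⟧) ⧸ toProd I) := by
  have : Module.Finite k ↥((Subalgebra.toSubmodule R).map (toProd I).mkQ) := by
    rw [← range_quotIncl]; infer_instance
  have : Module.Finite k (((Fin s → k⟦X⟧) ⧸ toProd I) ⧸
      (Subalgebra.toSubmodule R).map (toProd I).mkQ) :=
    Module.Finite.equiv (Submodule.quotientQuotientEquivQuotient _ _ (toProd_le I)).symm
  exact Module.Finite.of_submodule_quotient ((Subalgebra.toSubmodule R).map (toProd I).mkQ)

theorem finite_quotient_of_prod (I : Ideal R) [Module.Finite k ((Fin s → k⟦X⟧) ⧸ toProd I)] :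
    Module.Finite k (R ⧸ I) :=
  Module.Finite.of_injective (quotIncl I) (quotIncl_injective I)

theorem finrank_prod_quotient (I : Ideal R) [Module.Finite k ((Fin s → k⟦X⟧) ⧸ toProd I)] :
    Module.finrank k ((Fin s → k⟦X⟧) ⧸ toProd I) = Module.finrank k (R ⧸ I) +
      Module.finrank k ((Fin s → k⟦X⟧) ⧸ Subalgebra.toSubmodule R) := by
  rw [← Submodule.finrank_quotient_add_finrank ((Subalgebra.toSubmodule R).map (toProd I).mkQ),
    (Submodule.quotientQuotientEquivQuotient _ _ (toProd_le I)).finrank_eq, ← range_quotIncl,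
    LinearMap.finrank_range_of_inj (quotIncl_injective I), add_comm]

end Groth.HilbZeta
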